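import Mathlib

set_option autoImplicit false

/-! Dimension counts for eigenspaces. -/

namespace H98

open Module Polynomial

variable {F : Type*} [Field F] {V : Type*} [AddCommGroup V] [Module F V] [FiniteDimensional F V]

theorem finrank_map_add_finrank_inf_ker {V' : Type*} [AddCommGroup V'] [Module F V'] (φ : V →ₗ[F] V')
    (U : Submodule F V) : finrank F (U.map φ) + finrank F ↥(U ⊓ LinearMap.ker φ) = finrank F U := by
  have h := (φ.domRestrict U).finrank_range_add_finrank_ker
  rw [LinearMap.range_domRestrict, LinearMap.ker_domRestrict, ← Submodule.finrank_map_subtype_eq U,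
    Submodule.map_comap_subtype] at h
  exact h

theorem finrank_le_of_injective_mapsTo (φ : V →ₗ[F] V) (hφ : Function.Injective φ) {A B : Submodule F V}
    (h : ∀ v ∈ A, φ v ∈ B) : finrank F A ≤ finrank F B := by
  have h1 := finrank_map_add_finrank_inf_ker φ A
  rw [LinearMap.ker_eq_bot.2 hφ, inf_bot_eq, finrank_bot, add_zero] at h1
  rw [← h1]
  exact Submodule.finrank_mono (by rintro _ ⟨v, hv, rfl⟩; exact h v hv)

theorem two_mul_finrank_le (φ : V →ₗ[F] V) (hφ : Function.Injective φ) {A C : Submodule F V}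
    (h : ∀ v ∈ A, φ v ∈ A → φ v ∈ C) : 2 * finrank F A ≤ finrank F V + finrank F C := by
  have h1 := finrank_map_add_finrank_inf_ker φ A
  rw [LinearMap.ker_eq_bot.2 hφ, inf_bot_eq, finrank_bot, add_zero] at h1
  have h2 := Submodule.finrank_sup_add_finrank_inf_eq A (A.map φ)
  have h3 := Submodule.finrank_le (A ⊔ A.map φ)
  have h4 : finrank F ↥(A ⊓ A.map φ) ≤ finrank F C :=
    Submodule.finrank_mono (by rintro _ ⟨h5, v, hv, rfl⟩; exact h v hv h5)
  omega

theorem eigenspace_eq_ker (f : End F V) (s : F) :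
    f.eigenspace s = LinearMap.ker (f - s • (1 : End F V)) := by
  ext v
  simp [End.mem_eigenspace_iff, sub_eq_zero]

theorem sum_finrank_inf_eigenspace_le (f : End F V) (S : Finset F) (U : Submodule F V) :
    ∑ s ∈ S, finrank F ↥(U ⊓ f.eigenspace s) ≤ finrank F U := by
  classical
  induction S using Finset.induction_on generalizing U with
  | empty => simp
  | insert s₀ S hs ih =>
    rw [Finset.sum_insert hs, ← finrank_map_add_finrank_inf_ker (f - s₀ • (1 : End F V)) U,
      ← eigenspace_eq_ker, add_comm]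
    refine Nat.add_le_add_right (le_trans (Finset.sum_le_sum (fun s hs' => Submodule.finrank_mono ?_)) (ih _)) _
    rintro v ⟨hv1, hv2⟩
    have hne : s - s₀ ≠ 0 := sub_ne_zero.2 (by rintro rfl; exact hs hs')
    refine ⟨⟨(s - s₀)⁻¹ • v, U.smul_mem _ hv1, ?_⟩, hv2⟩
    have h1 : f v = s • v := End.mem_eigenspace_iff.1 hv2
    rw [map_smul, LinearMap.sub_apply, h1, LinearMap.smul_apply, End.one_apply, ← sub_smul, smul_smul,
      inv_mul_cancel₀ hne, one_smul]

theorem finrank_le_sum_inf_eigenspace (f : End F V) (S : Finset F) (W : Submodule F V)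
    (hW : ∀ w ∈ W, f w ∈ W) (h0 : ∀ w ∈ W, aeval f (∏ t ∈ S, (X - C t)) w = 0) :
    finrank F W ≤ ∑ s ∈ S, finrank F ↥(W ⊓ f.eigenspace s) := by
  classical
  induction S using Finset.induction_on generalizing W with
  | empty =>
    have : W = ⊥ := by
      rw [eq_bot_iff]; intro w hw; simpa using h0 w hw
    simp [this]
  | insert s₀ S hs ih =>
    rw [Finset.sum_insert hs, ← finrank_map_add_finrank_inf_ker (f - s₀ • (1 : End F V)) W,
      ← eigenspace_eq_ker, add_comm]
    have hle : W.map (f - s₀ • (1 : End F V)) ≤ W := by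
      rintro _ ⟨w, hw, rfl⟩
      exact W.sub_mem (hW w hw) (W.smul_mem _ hw)
    refine Nat.add_le_add_left (le_trans (ih _ ?_ ?_) (Finset.sum_le_sum (fun s _ =>
      Submodule.finrank_mono (inf_le_inf_right _ hle)))) _
    · rintro _ ⟨w, hw, rfl⟩
      exact ⟨f w, hW w hw, by simp⟩
    · rintro _ ⟨w, hw, rfl⟩
      have := h0 w hw
      rw [Finset.prod_insert hs, mul_comm, map_mul, End.mul_apply] at this
      simpa [Algebra.algebraMap_eq_smul_one] using this

end H98
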